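import Mathlib

/-!
# Quasi-regularity of weakly regular sequences
-/

set_option autoImplicit false

universe u

noncomputable section

namespace Groth.Agent.QuasiRegLib

variable {A : Type u} [CommRing A] (J : Ideal A)

/-- `g` is regular modulo `L`. -/
def RegMod (L : Ideal A) (g : A) : Prop := ∀ x, g * x ∈ L → x ∈ L

/-- The three properties of an ideal generated by a regular sequence modulo `J`. -/
def Good (R : Ideal A) : Prop :=
  (∀ (m : ℕ) (L : Ideal A), J ⊔ R ≤ L → ∀ g, RegMod L g → ∀ y ∈ R ^ m, g * y ∈ J ⊔ L * R ^ m → y ∈ J ⊔ L * R ^ m) ∧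
  (∀ n : ℕ, ∀ x ∈ R ^ n, x ∈ J → x ∈ J * R ^ n ⊔ R ^ (n + 1))

theorem good_bot : Good J (⊥ : Ideal A) := by
  constructor
  · intro m L hL g hg y hy h
    rcases m with _ | m
    · rw [pow_zero, Ideal.one_eq_top, Ideal.mul_top, sup_eq_right.2 (le_trans le_sup_left hL)] at h ⊢
      exact hg y h
    · rw [← Ideal.zero_eq_bot, zero_pow (Nat.succ_ne_zero m), Ideal.zero_eq_bot, Ideal.mem_bot] at hy
      rw [hy]; exact zero_mem _
  · intro n x hx hxJ
    rcases n with _ | n
    · rw [pow_zero, Ideal.one_eq_top, Ideal.mul_top]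
      exact Ideal.mem_sup_left hxJ
    · rw [← Ideal.zero_eq_bot, zero_pow (Nat.succ_ne_zero n), Ideal.zero_eq_bot, Ideal.mem_bot] at hx
      rw [hx]; exact zero_mem _

theorem Good.reg_pow {R : Ideal A} (hR : Good J R) {g : A} (hg : RegMod (J ⊔ R) g) :
    ∀ m : ℕ, RegMod (J ⊔ R ^ m) g := by
  intro m
  induction m with
  | zero => intro x _; simp [Ideal.one_eq_top]
  | succ m ih =>
    intro x hx
    have hx' : x ∈ J ⊔ R ^ m := ih x (sup_le_sup_left (Ideal.pow_le_pow_right (Nat.le_succ m)) J hx)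
    obtain ⟨j, hj, y, hy, rfl⟩ := Submodule.mem_sup.1 hx'
    have e : J ⊔ (J ⊔ R) * R ^ m = J ⊔ R ^ (m + 1) := by
      rw [Ideal.sup_mul, ← sup_assoc, sup_eq_left.2 (Ideal.mul_le_left : J * R ^ m ≤ J), ← pow_succ']
    have hgy : g * y ∈ J ⊔ R ^ (m + 1) := by
      have := sub_mem hx (Ideal.mem_sup_left (T := R ^ (m + 1)) (J.mul_mem_left g hj))
      rwa [mul_add, add_sub_cancel_left] at this
    refine add_mem (Ideal.mem_sup_left hj) ?_
    rw [← e] at hgy ⊢
    exact hR.1 m _ le_rfl g hg y hy hgy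

theorem decomp {R : Ideal A} {f x : A} {m : ℕ} (hx : x ∈ (R ⊔ Ideal.span {f}) ^ (m + 1)) :
    ∃ y ∈ R ^ (m + 1), ∃ z ∈ (R ⊔ Ideal.span {f}) ^ m, x = y + f * z := by
  set S := R ⊔ Ideal.span {f} with hS
  have key : ∀ k, S ^ (k + 1) ≤ R ^ (k + 1) ⊔ Ideal.span {f} * S ^ k := by
    intro k
    induction k with
    | zero => rw [pow_one, pow_one, pow_zero, Ideal.one_eq_top, Ideal.mul_top]
    | succ k ih =>
      calc S ^ (k + 1 + 1) = S * S ^ (k + 1) := pow_succ' _ _
        _ ≤ R * (R ^ (k + 1) ⊔ Ideal.span {f} * S ^ k) ⊔ Ideal.span {f} * S ^ (k + 1) := by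
            conv_lhs => rw [hS, Ideal.sup_mul, ← hS]
            exact sup_le_sup_right (Ideal.mul_mono_right ih) _
        _ ≤ _ := by
            rw [Ideal.mul_sup, ← pow_succ', ← mul_assoc, mul_comm R (Ideal.span {f}), mul_assoc]
            refine sup_le (sup_le le_sup_left (le_sup_of_le_right ?_)) le_sup_right
            rw [pow_succ' S k]
            exact Ideal.mul_mono_right (Ideal.mul_mono_left le_sup_left)
  obtain ⟨y, hy, w, hw, rfl⟩ := Submodule.mem_sup.1 (key m hx)
  obtain ⟨z, hz, rfl⟩ := Ideal.mem_span_singleton_mul.1 hw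
  exact ⟨y, hy, z, hz, rfl⟩

theorem Good.step {R : Ideal A} (hR : Good J R) {f : A} (hf : RegMod (J ⊔ R) f) :
    Good J (R ⊔ Ideal.span {f}) := by
  set S := R ⊔ Ideal.span {f}
  have hRS : R ≤ S := le_sup_left
  have hfS : f ∈ S := Ideal.mem_sup_right (Ideal.mem_span_singleton_self f)
  have hmul : ∀ {n : ℕ} {z : A}, z ∈ S ^ n → f * z ∈ S ^ (n + 1) := fun hz => by
    rw [pow_succ']; exact Ideal.mul_mem_mul hfS hz
  constructor
  · intro m
    induction m with
    | zero =>
      intro L hL g hg y _ h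
      rw [pow_zero, Ideal.one_eq_top, Ideal.mul_top, sup_eq_right.2 (le_trans le_sup_left hL)] at h ⊢
      exact hg y h
    | succ m ih =>
      intro L hL g hg x hx h
      obtain ⟨y, hy, z, hz, rfl⟩ := decomp hx
      have hSL : S ≤ L := le_sup_right.trans hL
      -- split the right hand side
      obtain ⟨j, hj, w, hw, hjw⟩ := Submodule.mem_sup.1 h
      have hsplit : ∀ w ∈ L * S ^ (m + 1), ∃ u ∈ L * R ^ (m + 1), ∃ v ∈ L * S ^ m, w = u + f * v := by
        intro w hw
        induction hw using Submodule.mul_induction_on' with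
        | mem_mul_mem l hl s hs =>
          obtain ⟨y', hy', z', hz', rfl⟩ := decomp hs
          exact ⟨l * y', Ideal.mul_mem_mul hl hy', l * z', Ideal.mul_mem_mul hl hz', by ring⟩
        | add a _ b _ ha hb =>
          obtain ⟨u, hu, v, hv, rfl⟩ := ha
          obtain ⟨u', hu', v', hv', rfl⟩ := hb
          exact ⟨u + u', add_mem hu hu', v + v', add_mem hv hv', by ring⟩
      obtain ⟨u, hu, v, hv, rfl⟩ := hsplit w hw
      have h1 : f * (g * z - v) ∈ J ⊔ R ^ (m + 1) := by
        have e : f * (g * z - v) = j + (u - g * y) := by linear_combination -hjw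
        rw [e]
        exact Submodule.add_mem_sup hj (sub_mem (Ideal.mul_le_right hu) (Ideal.mul_mem_left _ _ hy))
      have h2 := hR.reg_pow J hf (m + 1) _ h1
      have hRm : R ^ (m + 1) ≤ L * S ^ m := by
        rw [pow_succ']; exact Ideal.mul_mono (hRS.trans hSL) (Ideal.pow_right_mono hRS m)
      have h3 : g * z ∈ J ⊔ L * S ^ m := by
        have := add_mem (sup_le_sup_left hRm J h2) (Ideal.mem_sup_right (S := J) hv)
        rwa [sub_add_cancel] at this
      have hz' := ih L hL g hg z hz h3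
      have hfz : f * z ∈ J ⊔ L * S ^ (m + 1) := by
        obtain ⟨j', hj', w', hw', rfl⟩ := Submodule.mem_sup.1 hz'
        rw [mul_add]
        refine Submodule.add_mem_sup (J.mul_mem_left f hj') ?_
        rw [pow_succ', ← mul_assoc, mul_comm L S, mul_assoc]
        exact Ideal.mul_mem_mul hfS hw'
      refine add_mem ?_ hfz
      -- the part in the smaller ideal
      have hgy : g * y ∈ J ⊔ L * R ^ (m + 1) := by
        obtain ⟨j', hj', w', hw', hfz'⟩ := Submodule.mem_sup.1 hfz
        obtain ⟨u', hu', v', hv', rfl⟩ := hsplit w' hw'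
        have e : f * (v - g * v') = (g * y - u + g * u') + (g * j' - j) := by
          linear_combination hjw - g * hfz'
        have h4 : v - g * v' ∈ J ⊔ R ^ (m + 1) := by
          refine hR.reg_pow J hf (m + 1) _ ?_
          rw [e]
          exact add_mem (Ideal.mem_sup_right (add_mem (sub_mem (Ideal.mul_mem_left _ _ hy) (Ideal.mul_le_right hu))
            (Ideal.mul_mem_left _ _ (Ideal.mul_le_right hu')))) (Ideal.mem_sup_left (sub_mem (J.mul_mem_left g hj') hj))
        obtain ⟨j₂, hj₂, r₂, hr₂, he⟩ := Submodule.mem_sup.1 h4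
        have : g * y = (j - g * j' + f * j₂) + ((u - g * u') + f * r₂) := by linear_combination -e - f * he
        rw [this]
        exact Submodule.add_mem_sup (add_mem (sub_mem hj (J.mul_mem_left g hj')) (J.mul_mem_left f hj₂))
          (add_mem (sub_mem hu (Ideal.mul_mem_left _ _ hu')) (Ideal.mul_mem_mul (hSL hfS) hr₂))
      exact sup_le_sup_left (Ideal.mul_mono_right (Ideal.pow_right_mono hRS _)) J
        (hR.1 (m + 1) L (le_trans (sup_le_sup_left hRS J) hL) g hg y hy hgy)
  · intro n
    induction n with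
    | zero =>
      intro x _ hxJ
      rw [pow_zero, Ideal.one_eq_top, Ideal.mul_top]
      exact Ideal.mem_sup_left hxJ
    | succ n ih =>
      intro x hx hxJ
      obtain ⟨y, hy, z, hz, rfl⟩ := decomp hx
      have h1 : f * z ∈ J ⊔ R ^ (n + 1) := by
        rw [show f * z = (y + f * z) + -y by ring]
        exact Submodule.add_mem_sup hxJ (neg_mem hy)
      obtain ⟨j, hj, v, hv, hjv⟩ := Submodule.mem_sup.1 (hR.reg_pow J hf (n + 1) z h1)
      have hjS : j ∈ S ^ n := by
        rw [show j = z - v by rw [← hjv]; ring]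
        exact sub_mem hz (Ideal.pow_le_pow_right (Nat.le_succ n) (Ideal.pow_right_mono hRS _ hv))
      have hfj : f * j ∈ J * S ^ (n + 1) ⊔ S ^ (n + 1 + 1) := by
        obtain ⟨a, ha, b, hb, e⟩ := Submodule.mem_sup.1 (ih j hjS hj)
        rw [← e, mul_add]
        refine Submodule.add_mem_sup ?_ (hmul hb)
        rw [pow_succ', ← mul_assoc, mul_comm J S, mul_assoc]
        exact Ideal.mul_mem_mul hfS ha
      have hyv : y + f * v ∈ J := by
        rw [show y + f * v = (y + f * z) - f * j by rw [← hjv]; ring]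
        exact sub_mem hxJ (J.mul_mem_left f hj)
      have h2 := hR.2 (n + 1) _ (add_mem hy (Ideal.mul_mem_left _ f hv)) hyv
      rw [show y + f * z = (y + f * v) + f * j by rw [← hjv]; ring]
      exact add_mem (sup_le_sup (Ideal.mul_mono_right (Ideal.pow_right_mono hRS _)) (Ideal.pow_right_mono hRS _) h2) hfj

theorem good_ofList (l : List A) :
    RingTheory.Sequence.IsWeaklyRegular (A ⧸ J) l → ∀ i ≤ l.length, Good J (Ideal.ofList (l.take i)) := by
  intro hl i
  induction i with
  | zero => intro _; rw [List.take_zero, Ideal.ofList_nil]; exact good_bot J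
  | succ i ih =>
    intro hi
    have hlt : i < l.length := by omega
    rw [List.take_succ_eq_append_getElem hlt, Ideal.ofList_append, Ideal.ofList_singleton]
    refine (ih (by omega)).step J fun x hx => ?_
    set R := Ideal.ofList (l.take i)
    have hR : (R • ⊤ : Submodule A (A ⧸ J)) = Submodule.map J.mkQ R := by
      rw [← LinearMap.range_eq_top.2 J.mkQ_surjective, LinearMap.range_eq_map, ← Submodule.map_smul'', Ideal.smul_top_eq_map]
      simp
    have hmem : ∀ a, Submodule.Quotient.mk a ∈ (R • ⊤ : Submodule A (A ⧸ J)) ↔ a ∈ J ⊔ R := fun a => by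
      rw [hR, ← Submodule.comap_map_mkQ J R, Submodule.mem_comap]; rfl
    have hreg := hl.regular_mod_prev i hlt
    have h0 : l[i] • (Submodule.Quotient.mk (Submodule.Quotient.mk x) : (A ⧸ J) ⧸ (R • ⊤ : Submodule A (A ⧸ J))) =
        l[i] • (0 : (A ⧸ J) ⧸ (R • ⊤ : Submodule A (A ⧸ J))) := by
      rw [smul_zero, ← Submodule.Quotient.mk_smul, ← Submodule.Quotient.mk_smul, Submodule.Quotient.mk_eq_zero, hmem]
      exact hx
    exact (hmem x).1 ((Submodule.Quotient.mk_eq_zero _).1 (hreg h0))

theorem good_range {r : ℕ} (f : Fin r → A)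
    (hf : RingTheory.Sequence.IsWeaklyRegular (A ⧸ J) (List.ofFn f)) : Good J (Ideal.span (Set.range f)) := by
  have := good_ofList J _ hf _ le_rfl
  rwa [List.take_length, Ideal.ofList, show {x : A | x ∈ List.ofFn f} = Set.range f by ext; simp [List.mem_ofFn]] at this

theorem inf_pow_le {R : Ideal A} (hR : Good J R) (n : ℕ) :
    ∀ N, n ≤ N → J ⊓ R ^ n ≤ J * R ^ n ⊔ J ⊓ R ^ N := by
  intro N hN
  induction N, hN using Nat.le_induction with
  | base => exact le_sup_right
  | succ N hN ih =>
    refine ih.trans (sup_le le_sup_left ?_)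
    rintro x ⟨hxJ, hxR⟩
    obtain ⟨a, ha, b, hb, rfl⟩ := Submodule.mem_sup.1 (hR.2 N x hxR hxJ)
    refine Submodule.add_mem_sup (Ideal.mul_mono_right (Ideal.pow_le_pow_right hN) ha) ⟨?_, hb⟩
    have := J.sub_mem hxJ (Ideal.mul_le_left ha : a ∈ J)
    rwa [add_sub_cancel_left] at this

theorem inf_pow_eq [IsNoetherianRing A] {R : Ideal A} (hR : Good J R) (n : ℕ) : J ⊓ R ^ n = J * R ^ n := by
  refine le_antisymm ?_ (le_inf Ideal.mul_le_left Ideal.mul_le_right)
  obtain ⟨k, hk⟩ := Ideal.exists_pow_inf_eq_pow_smul R (J : Submodule A A)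
  have h := hk (k + n) (Nat.le_add_right k n)
  rw [show ∀ i : ℕ, (R ^ i • ⊤ : Submodule A A) = R ^ i from fun i => by simp] at h
  rw [show ∀ i : ℕ, (R ^ i • ⊤ : Submodule A A) = R ^ i from fun i => by simp, Nat.add_sub_cancel_left] at h
  refine (inf_pow_le J hR n (k + n) (Nat.le_add_left n k)).trans (sup_le le_rfl ?_)
  rw [inf_comm, h, smul_eq_mul, mul_comm]
  exact Ideal.mul_mono_left inf_le_right

end Groth.Agent.QuasiRegLib
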